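import Cfsg.Agent.S5274
import Cfsg.Agent.Lib.Fusion.Group

/-!
# Groups in which every 2-element is 2-central

Such a group has abelian Sylow 2-subgroups: the fusion system form of the Camina–Herzog criterion,
applied to the fusion system of the group.
-/

set_option autoImplicit false

namespace CfsgLib.TwoCentral

open Cfsg Cfsg.FusionSystem

variable {G : Type*} [Group G] [Finite G]

/-- A Sylow 2-subgroup is abelian when each of its elements is centralised by some Sylow 2-subgroup. -/
theorem comm_of_central (P : Sylow 2 G)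
    (h : ∀ x : G, (∃ k : ℕ, orderOf x = 2 ^ k) →
      ∃ Q : Sylow 2 G, (Q : Subgroup G) ≤ Subgroup.centralizer ({x} : Set G)) :
    IsMulCommutative (P : Subgroup G) := by
  haveI : Fact (Nat.Prime 2) := ⟨Nat.prime_two⟩
  refine Cfsg.Agent.S5274.result P.2 _ (groupFusionSystem_isSaturated P) fun x hx => ?_
  obtain ⟨k, hk⟩ := (IsPGroup.iff_orderOf.mp P.2) ⟨x, hx⟩
  rw [← Subgroup.orderOf_coe] at hk
  obtain ⟨Q, hQ⟩ := h x ⟨k, hk⟩
  obtain ⟨g, hg⟩ := MulAction.exists_smul_eq G Q P
  set z := g * x * g⁻¹ with hz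
  have hcomm : ∀ w ∈ (P : Subgroup G), w * z = z * w := by
    intro w hw
    rw [← hg, Sylow.coe_subgroup_smul] at hw
    obtain ⟨v, hv, rfl⟩ := hw
    have e := Subgroup.mem_centralizer_singleton_iff.mp (hQ hv)
    show g * v * g⁻¹ * (g * x * g⁻¹) = g * x * g⁻¹ * (g * v * g⁻¹)
    rw [show g * v * g⁻¹ * (g * x * g⁻¹) = g * (v * x) * g⁻¹ by group, e]
    group
  have hzP : z ∈ (P : Subgroup G) := by
    have hzp : IsPGroup 2 (Subgroup.zpowers z) := by
      refine IsPGroup.of_card (n := k) ?_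
      have e1 : orderOf z = orderOf x := by
        rw [hz]; exact (MulAut.conj g).orderOf_eq x
      rw [Nat.card_zpowers, e1, hk]
    have hn : Subgroup.zpowers z ≤ Subgroup.normalizer ((P : Subgroup G) : Set G) := by
      rw [Subgroup.zpowers_le]
      apply Subgroup.centralizer_le_normalizer
      exact Subgroup.mem_centralizer_iff.mpr hcomm
    have hsup : IsPGroup 2 ↥(Subgroup.zpowers z ⊔ (P : Subgroup G)) :=
      IsPGroup.to_sup_of_normal_right' hzp P.2 hn
    have := P.3 hsup le_sup_right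
    exact this ▸ Subgroup.mem_sup_left (Subgroup.mem_zpowers z)
  have hPx : Subgroup.zpowers x ≤ (P : Subgroup G) := Subgroup.zpowers_le.mpr hx
  refine ⟨z, ⟨hzP, Subgroup.mem_centralizer_iff.mpr hcomm⟩,
    conjHom (Subgroup.zpowers x) g, conjHom_mem_groupFusionSystem hPx ?_, rfl⟩
  intro y hy
  obtain ⟨n, rfl⟩ := Subgroup.mem_zpowers_iff.mp hy
  rw [← conj_zpow]
  exact zpow_mem hzP n

end CfsgLib.TwoCentral
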